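import Cfsg.Agent.Lib.MatB.F3
import Cfsg.Agent.Lib.Comp.J4.Gam

set_option maxRecDepth 100000
set_option Elab.async false

namespace Cfsg.Lib.Comp.J4

universe u

open Cfsg.Lib.MatB.F2

noncomputable def eD : List (ℕ × ℕ) := (apd [(1,0),
 (0,2),
 (0,2),
 (0,5),
 (0,4),
 (0,7),
 (0,6),
 (0,9),
 (0,8),
 (0,11),
 (0,13),
 (0,12),
 (0,12),
 (0,14),
 (0,14),
 (0,16),
 (0,16),
 (0,18),
 (0,18),
 (0,21),
 (0,20),
 (0,0),
 (0,1),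
 (16,24),
 (0,24),
 (0,26),
 (0,26),
 (0,28),
 (0,28),
 (0,1),
 (0,2),
 (0,31),
 (0,0),
 (35,33),
 (0,36),
 (0,35),
 (0,38),
 (0,37),
 (0,39),
 (0,39)]
 (apd [(0,41),
 (0,41),
 (0,44),
 (0,43),
 (0,46),
 (0,45),
 (0,1),
 (0,2),
 (0,48),
 (0,21),
 (17,0),
 (0,19),
 (2,20),
 (0,21),
 (2,0),
 (0,3),
 (56,11),
 (0,12),
 (0,58),
 (0,14),
 (0,0),
 (0,11),
 (6,0),
 (9,9),
 (1,0),
 (2,2),
 (1,0),
 (0,3),
 (0,6),
 (9,19),
 (0,10),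
 (0,11),
 (0,0),
 (0,1),
 (0,8),
 (6,0),
 (0,76),
 (0,14),
 (0,16),
 (0,17)]
 (apd [(8,26),
 (0,9),
 (0,8),
 (0,1),
 (0,10),
 (0,31),
 (0,36),
 (27,7),
 (0,56),
 (0,5),
 (0,5),
 (0,91),
 (0,8),
 (0,41),
 (0,30),
 (8,0),
 (42,24),
 (0,35),
 (0,26),
 (3,0),
 (0,46),
 (37,29),
 (0,18),
 (0,103),
 (0,19),
 (0,21),
 (0,46),
 (43,8),
 (0,108),
 (0,34),
 (0,56),
 (0,47),
 (0,46),
 (0,48),
 (7,0),
 (0,83),
 (15,0),
 (0,3),
 (0,68),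
 (39,0)]
 (apd [(0,6),
 (57,67),
 (0,40),
 (0,39),
 (0,62),
 (0,40),
 (0,51),
 (0,42),
 (0,9),
 (8,0),
 (0,35),
 (81,51),
 (0,37),
 (0,71),
 (0,71),
 (0,19),
 (0,86),
 (0,75),
 (0,53),
 (8,0),
 (0,112),
 (0,12),
 (0,114),
 (0,27),
 (0,15),
 (0,146),
 (0,74),
 (150,33),
 (0,53),
 (0,151),
 (0,153),
 (0,37),
 (0,57),
 (0,155),
 (0,157),
 (0,123),
 (0,157),
 (0,160),
 (161,160),
 (0,99)]
 (apd [(0,163),
 (0,162),
 (0,46),
 (0,83),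
 (0,167),
 (0,166),
 (0,50),
 (0,87),
 (0,171),
 (11,22),
 (0,1),
 (171,172),
 (0,173),
 (0,173),
 (0,175),
 (0,176),
 (178,178),
 (0,177),
 (0,180),
 (0,181),
 (0,180),
 (5,158),
 (0,1),
 (0,36),
 (0,0),
 (0,0),
 (0,2),
 (0,0),
 (0,4),
 (166,18),
 (0,0),
 (0,0),
 (0,2),
 (0,0),
 (0,4),
 (26,0),
 (0,38),
 (8,0),
 (200,79),
 (0,124)]
 (apd [(172,138),
 (0,135),
 (0,118),
 (0,108),
 (0,154),
 (0,207),
 (0,126),
 (0,78),
 (123,145),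
 (0,155),
 (0,182),
 (0,211),
 (0,128),
 (0,150),
 (0,75),
 (0,130),
 (136,0),
 (0,132),
 (0,143),
 (80,134),
 (0,145),
 (0,136),
 (0,168),
 (0,139),
 (0,142),
 (0,163),
 (0,162),
 (0,113),
 (0,229),
 (0,179),
 (0,114),
 (0,147),
 (0,166),
 (0,179),
 (0,189),
 (16,0),
 (0,236),
 (0,121),
 (0,240),
 (154,120)]
 (apd [(0,141),
 (0,157),
 (0,242),
 (0,198),
 (0,182),
 (0,146),
 (0,161),
 (8,0),
 (40,0),
 (0,249),
 (0,131),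
 (0,16),
 (0,253),
 (0,37),
 (0,180),
 (0,203),
 (56,0),
 (0,10),
 (0,184),
 (0,70),
 (87,263),
 (0,262),
 (90,262),
 (0,265),
 (0,267),
 (0,267),
 (4,266),
 (0,269),
 (0,268),
 (3,271),
 (0,270),
 (11,0),
 (0,12),
 (0,4),
 (0,0),
 (0,0),
 (0,2),
 (8,0),
 (0,0),
 (0,0)]
 [(0,2),
 (0,0),
 (0,4),
 (0,85),
 (0,0),
 (0,0),
 (0,2),
 (0,0),
 (0,4),
 (0,0),
 (0,1),
 (0,144),
 (0,3),
 (146,146),
 (0,0),
 (0,148),
 (0,0),
 (4,4),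
 (0,0),
 (0,6),
 (0,0),
 (4,0),
 (0,155),
 (0,10)])))))))

theorem eD_ok : slpM 112 mR mI eD [m1, m2, m3, m4] (fun l => cubeB 112 mR mI (nth mI l 11) (nth mI l 157) (nth mI l 0) 11 0) = true := by
  decide +kernel

theorem in_let {x : ℕ} (h : x ∈ L) : In 112 rho ⊤ (mT x) :=
  ⟨gam x, trivial, by rw [show rho (gam x) = dl x from rho_ex.choose_spec x h]; exact dl_ok.2 x (by simp [L] at h; omega)⟩

theorem in_acc : ∀ A ∈ [m1, m2, m3, m4], In 112 rho ⊤ A := by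
  simp only [List.forall_mem_cons]
  exact ⟨in_let (x := 1) (by decide), in_let (x := 2) (by decide), in_let (x := 3) (by decide),
    in_let (x := 4) (by decide), by simp⟩

theorem cube : 11 ^ 3 ∣ Nat.card rho.range := by
  obtain ⟨l, h, hl⟩ := cx.slp in_acc eD_ok
  exact cx.cube (hl _) (hl _) (hl _) (by norm_num) (by norm_num) h

theorem o29 : orderOf (rho (ev gam [1,2,4,2,4,3,1,3])) = 29 :=
  cx.ord (rho_ev (by decide +kernel)) (i := 0) (by norm_num) (by norm_num) (by decide +kernel)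

theorem o31 : orderOf (rho (ev gam [1,2,1,4,2,1,2])) = 31 :=
  cx.ord (rho_ev (by decide +kernel)) (i := 0) (by norm_num) (by norm_num) (by decide +kernel)

theorem o37 : orderOf (rho (ev gam [2,4,3,1,2,2])) = 37 :=
  cx.ord (rho_ev (by decide +kernel)) (i := 0) (by norm_num) (by norm_num) (by decide +kernel)

theorem o43 : orderOf (rho (ev gam [2,4,2,4,1,2,4,2,1])) = 43 :=
  cx.ord (rho_ev (by decide +kernel)) (i := 0) (by norm_num) (by norm_num) (by decide +kernel)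

end Cfsg.Lib.Comp.J4
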