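import Cfsg.Agent.Lib.Comp.J4.Low
import Cfsg.Agent.Lib.Comp.J4n.Loc
import Cfsg.Agent.Lib.Comp.J4n.Up6
import Cfsg.Agent.Lib.Comp.J4s.Up
import Cfsg.Agent.Lib.Comp.J4m.Perm
import Cfsg.Agent.Lib.Comp.Subst2
import Cfsg.Agent.Lib.MatB.J4L

set_option maxRecDepth 100000

namespace Cfsg.Lib.Comp.J4

open Cfsg.Lib.MatB.F2 Cfsg.Lib.MatB.J4L

theorem rho_gen : ∀ x ∈ L, rho (gam x) = dl x := rho_ex.choose_spec

theorem rho_n {g : Spor.J4} (hg : g ∈ cl gam LN) (h : rho g = 1) : g = 1 :=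
  congrArg Subtype.val ((injective_iff_map_eq_one _).1 (inj_of_simple n_simple (f := rho.comp (cl gam LN).subtype)
    (g := ⟨gam 1, mem_cl (by decide)⟩) fun e => dl_ne ((rho_gen 1 (by decide)).symm.trans e)) ⟨g, hg⟩ h)

theorem zdl : Rels dl (J4n.zG.map fun w => (w, 0)) := cx.rels dl_ok.2 (by decide +kernel)

theorem zrel : Rels gam (J4n.zG.map fun w => (w, 0)) := rels_words fun w hw => by
  refine rho_n (J4n.zmem _ gam _ gam_iv gam_rel (fun u hu => ev_mem fun x hx => mem_cl ?_) w hw) ?_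
  · revert x u; decide
  · rw [map_ev_of_gen fun x hx => rho_gen x (sub_of_allL (G := J4n.zG) (by decide +kernel) w hw x hx)]
    simpa using zdl (w, 0) (List.mem_map.2 ⟨w, hw, rfl⟩)

/-- The generators `x, y, z` of the subgroup `M`. -/
noncomputable def gm : ℕ → Spor.J4 := sv gam [[], [1], [2], [3], J4m.zw]

/-- The same, with `z` replaced by the identity. -/
noncomputable def gn : ℕ → Spor.J4 := sv gam [[], [1], [2], [3]]

noncomputable def Rq : List (List ℕ × ℕ) := ([4, 4], 0) :: J4m.R.filter (· ≠ ([4], 1))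

theorem of_rq {γ : ℕ → Spor.J4} (h : Rels γ Rq) : Rels γ J4m.R := fun r hr => by
  rcases (by revert r; decide +kernel : r ∈ Rq ∨ r = ([4], 1)) with h1 | rfl
  · exact h r h1
  · simpa [ev_cons, ev_nil, pow_two] using h _ List.mem_cons_self

theorem gm_ok : IvOK gm iv ∧ Rels gm Rq :=
  SvOK.ok (R := RN ++ J4n.zG.map fun w => (w, 0)) (by decide +kernel) gam_iv ((rn _ _ gam_iv gam_rel).append zrel)

theorem gn_ok : IvOK gn iv ∧ Rels gn Rq := SvOK.ok (R := RN) (by decide +kernel) gam_iv (rn _ _ gam_iv gam_rel)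

theorem gm_n : ∀ x ∈ LN, gm x = gam x := by
  simp only [LN, List.forall_mem_cons]; exact ⟨ev_single _ _, ev_single _ _, ev_single _ _, by simp⟩

theorem gn_n : ∀ x ∈ LN, gn x = gam x := by
  simp only [LN, List.forall_mem_cons]; exact ⟨ev_single _ _, ev_single _ _, ev_single _ _, by simp⟩

/-- The subgroup `2 ^ 11 : M₂₄`. -/
noncomputable def M : Subgroup Spor.J4 := cl gm L

theorem n_le : cl gam LN ≤ M := cl_le.2 fun x hx => gm_n x hx ▸ mem_cl (γ := gm) (by revert x; decide)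

theorem gn_cl : cl gn L = cl gam LN := le_antisymm (cl_le.2 (by
    simp only [L, List.forall_mem_cons]
    exact ⟨gn_n 1 (by decide) ▸ mem_cl (by decide), gn_n 2 (by decide) ▸ mem_cl (by decide),
      gn_n 3 (by decide) ▸ mem_cl (by decide), Subgroup.one_mem _, by simp⟩))
  (cl_le.2 fun x hx => gn_n x hx ▸ mem_cl (γ := gn) (by revert x; decide))

/-- The model of `M`. -/
abbrev E : Type := cl (gp J4m.nets) L

theorem e_card : Nat.card E = 501397585920 := card_of_ord J4s.ord J4m.nets_iv J4m.nets_rel J4m.lb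

instance : Finite E := J4m.nets_ok.finite _

theorem fm_ex : ∃ f : E →* Spor.J4, PhiOK J4m.nets L gm f :=
  hom_of_ord.{0, 0} J4s.ord J4m.nets_iv J4m.nets_rel gm_ok.1 (of_rq gm_ok.2) J4m.lb

theorem fn_ex : ∃ f : E →* Spor.J4, PhiOK J4m.nets L gn f :=
  hom_of_ord.{0, 0} J4s.ord J4m.nets_iv J4m.nets_rel gn_ok.1 (of_rq gn_ok.2) J4m.lb

noncomputable def fm : E →* Spor.J4 := fm_ex.choose

noncomputable def fn : E →* cl gam LN :=
  fn_ex.choose.codRestrict _ fun g => by rw [← gn_cl, ← fn_ex.choose_spec.range]; exact ⟨g, rfl⟩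

/-- Words in the model. -/
noncomputable abbrev ew (w : List ℕ) : E := evG J4m.nets (cl (gp J4m.nets) L) w

theorem fm_ev {w : List ℕ} (h : subB w L = true) : fm (ew w) = ev gm w := fm_ex.choose_spec.evG (sub_of_subB h)

theorem fn_ev {w : List ℕ} (h : subB w L = true) : (fn (ew w) : Spor.J4) = ev gn w :=
  fn_ex.choose_spec.evG (sub_of_subB h)

theorem fm_range : fm.range = M := fm_ex.choose_spec.range

theorem fn_surj : Function.Surjective fn := fun ⟨g, hg⟩ => by
  rw [← gn_cl, ← fn_ex.choose_spec.range] at hg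
  obtain ⟨a, rfl⟩ := hg
  exact ⟨a, rfl⟩

theorem ker_card : Nat.card fn.ker = 2 ^ 11 := by
  have h := fn.ker.index_mul_card
  rw [Subgroup.index_ker, MonoidHom.range_eq_top.2 fn_surj, Subgroup.card_top, n_card, e_card] at h
  omega

theorem z_ker : ew [4] ∈ fn.ker := Subtype.ext (fn_ev (by decide +kernel))

theorem a_pow : ew [1, 2] ^ 23 = 1 :=
  (J4m.nets_rel.mono (R' := [([1, 2], 22)]) (by decide +kernel)).sval
    (fun r hr x hx => mem_cl (by revert x r; decide)) _ List.mem_cons_self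

theorem fm_a : fm (ew [1, 2]) = ev gam [1, 2] := by
  rw [fm_ev (by decide +kernel)]; exact ev_congr _ fun x hx => gm_n x (by revert x; decide)

theorem fm_z : fm (ew [4]) = ev gam J4m.zw := by rw [fm_ev (by decide +kernel), ev_single]; rfl

theorem az : ¬ Commute (rho (fm (ew [1, 2]))) (rho (fm (ew [4]))) := by
  rw [fm_a, fm_z]
  exact (cx.mul (rho_ev (by decide +kernel)) (rho_ev (by decide +kernel))).ne
    (cx.mul (rho_ev (by decide +kernel)) (rho_ev (by decide +kernel))) (i := 0) (by norm_num) (by decide +kernel)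

theorem e_az : ¬ Commute (ew [1, 2]) (ew [4]) := fun h => az ((h.map fm).map rho)

theorem e_norm (K : Subgroup E) [K.Normal] : K = ⊥ ∨ K = fn.ker ∨ K = ⊤ :=
  have := n_simple
  norm3 fn_surj ker_card a_pow z_ker e_az K

theorem rho_fm : Function.Injective (rho.comp fm) := by
  rw [← MonoidHom.ker_eq_bot_iff]
  have h : ew [4] ∉ (rho.comp fm).ker := fun h => az (by
    rw [show rho (fm (ew [4])) = 1 from h]; exact Commute.one_right _)
  rcases e_norm (rho.comp fm).ker with e | e | e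
  · exact e
  · exact absurd (e ▸ z_ker) h
  · exact absurd (e ▸ Subgroup.mem_top _) h

theorem fm_inj : Function.Injective fm := Function.Injective.of_comp (f := rho) rho_fm

theorem m_card : Nat.card M = 501397585920 := by
  rw [← fm_range, ← e_card]; exact (Nat.card_congr (MonoidHom.ofInjective fm_inj).toEquiv).symm

theorem uW_mem : ∀ w ∈ J4n.uW, ev gam w ∈ M := by
  simp only [J4n.uW, List.forall_mem_cons]
  refine ⟨n_le (ev_mem fun x hx => mem_cl (by revert x; decide)), n_le (ev_mem fun x hx => mem_cl (by revert x; decide)),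
    ?_, by simp⟩
  have h : ev gm [2,1,2,1,2,1,2,1,3,1,3,4,1,2,1,3,1,3,1,3,1,3] ∈ M := ev_mem fun x hx => mem_cl (by revert x; decide)
  rw [gm, ← ev_xpd, ← ev_frd gam_iv] at h
  exact Set.mem_of_eq_of_mem (congrArg _ (by decide +kernel)) h

theorem ph_ex : ∃ f : cl (gp J4n.nets) LN →* Spor.J4, PhiOK J4n.nets LN gam f :=
  hom_of_ord.{0, 0} J4e.n_ord J4n.nets_iv J4n.nets_rel gam_iv (rn _ _ gam_iv gam_rel) J4n.lb

/-- The control group mapped onto `⟨x, y⟩`. -/
noncomputable def ph : cl (gp J4n.nets) LN →* Spor.J4 := ph_ex.choose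

/-- The representatives of the orbits on the cosets of `M`. -/
noncomputable def nd : ℕ → Spor.J4 ⧸ M :=
  letI : MulAction (cl (gp J4n.nets) LN) (Spor.J4 ⧸ M) := MulAction.compHom _ ph
  nodeX J4n.nets (cl (gp J4n.nets) LN) (fun y : Spor.J4 ⧸ M => (gam 4)⁻¹ • y) ((1 : Spor.J4) : Spor.J4 ⧸ M) J4n.uPA

theorem nd_zero : nd 0 = ((1 : Spor.J4) : Spor.J4 ⧸ M) := by rw [nd, nodeX, J4n.uA.1, List.foldl_nil]

theorem cover : (∀ v ∈ J4n.uV, (MulAction.orbit (cl gam LN) (nd v.1)).ncard ≤ v.2.2.2.2.2) ∧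
    ∀ y, ∃ v ∈ J4n.uV, y ∈ MulAction.orbit (cl gam LN) (nd v.1) := by
  obtain ⟨h1, h2⟩ := sym_cover J4n.nets_ok J4n.ctl ph_ex.choose_spec gam_iv J4n.card
    (fun w hw => Subgroup.mem_bot.1 (J4n.gw.of_cons J4n.rs _ gam ⊥ gam_iv gam_rel (by simp) w hw)) J4n.uP J4n.uS
    J4n.lev0.1 J4n.lev0.2 J4n.uA uW_mem J4n.uD_ok J4n.uV_ok (by decide +kernel) gam_top
  refine ⟨fun v hv => orbit_phi ph ph_ex.choose_spec.range (nd v.1) ▸ h1 v hv, fun y => ?_⟩
  obtain ⟨k, hk, e⟩ := h2 y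
  obtain ⟨v, hv, rfl⟩ := List.mem_map.1 hk
  exact ⟨v, hv, orbit_phi ph ph_ex.choose_spec.range (nd v.1) ▸ e⟩

instance : Finite (cl gam LN) := Nat.finite_of_card_ne_zero (by rw [n_card]; norm_num)

instance : Finite M := Nat.finite_of_card_ne_zero (by rw [m_card]; norm_num)

theorem sum_uV : (J4n.uV.map (·.2.2.2.2.2)).sum = 173067389 := by decide +kernel

theorem quo : Finite (Spor.J4 ⧸ M) ∧
    M.index ≤ (J4n.uV.map fun v => (MulAction.orbit (cl gam LN) (nd v.1)).ncard).sum := by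
  obtain ⟨h1, h2⟩ := card_le_sum (l := J4n.uV) (S := fun v => MulAction.orbit (cl gam LN) (nd v.1))
    fun v _ => Set.finite_range _
  rw [Set.eq_univ_of_forall (s := {y | ∃ v ∈ J4n.uV, y ∈ MulAction.orbit (cl gam LN) (nd v.1)}) cover.2] at h1 h2
  exact ⟨Set.finite_univ_iff.1 h1, by rwa [Set.ncard_univ] at h2⟩

instance : Finite Spor.J4 :=
  have := quo.1
  Finite.of_equiv _ (Subgroup.groupEquivQuotientProdSubgroup (s := M)).symm

theorem idx_le : M.index ≤ 173067389 := quo.2.trans (sum_uV ▸ List.sum_le_sum cover.1)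

theorem range_dvd : 86775571046077562880 ∣ Nat.card rho.range := by
  have h : ∀ w, orderOf (rho (ev gam w)) ∣ Nat.card rho.range := fun w => rho.range.orderOf_dvd_natCard ⟨_, rfl⟩
  have h1 : 501397585920 ∣ Nat.card rho.range := by
    rw [← e_card, Nat.card_congr (MonoidHom.ofInjective rho_fm).toEquiv]
    exact Subgroup.card_dvd_of_le fun _ ⟨g, e⟩ => ⟨_, e⟩
  have h2 := Nat.lcm_dvd (Nat.lcm_dvd (Nat.lcm_dvd h1 cube) (Nat.lcm_dvd (o29 ▸ h _) (o31 ▸ h _)))
    (Nat.lcm_dvd (o37 ▸ h _) (o43 ▸ h _))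
  exact Dvd.dvd.trans (by decide +kernel) h2

theorem card_all : Nat.card Spor.J4 = 86775571046077562880 ∧ Function.Injective rho ∧ M.index = 173067389 := by
  have h1 := M.index_mul_card
  have h2 := rho.ker.index_mul_card
  have h3 := Nat.le_of_dvd Nat.card_pos range_dvd
  have h4 := idx_le
  have h5 : 0 < Nat.card rho.ker := Nat.card_pos
  rw [Subgroup.index_ker] at h2
  rw [m_card] at h1
  have h7 : ∀ a b c d : ℕ, a * 501397585920 = b → c * d = b → 86775571046077562880 ≤ c → a ≤ 173067389 → 0 < d →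
      b = 86775571046077562880 ∧ d = 1 ∧ a = 173067389 := fun a b c d e1 e2 e3 e4 e5 => by
    obtain rfl : d = 1 := by nlinarith
    omega
  obtain ⟨a1, a2, a3⟩ := h7 _ _ _ _ h1 h2 h3 h4 h5
  exact ⟨a1, (MonoidHom.ker_eq_bot_iff _).1 (Subgroup.eq_bot_of_card_eq _ a2), a3⟩

theorem orbit_eq : ∀ v ∈ J4n.uV, (MulAction.orbit (cl gam LN) (nd v.1)).ncard = v.2.2.2.2.2 :=
  sum_exact cover.1 (by rw [sum_uV, ← card_all.2.2]; exact quo.2)

end Cfsg.Lib.Comp.J4
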