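import Cfsg.Agent.Lib.Comp.J4.Ord

set_option maxRecDepth 100000

namespace Cfsg.Lib.Comp.J4

open Cfsg.Spor Cfsg.Lib.MatB.F2 Cfsg.Lib.MatB.J4L

theorem ev_mk (s : FreeGroup J4.Gen) :
    PresentedGroup.mk (coxRelators J4.edges ∪ {r | r ∈ J4.extra}) s = ev gam (fw ix iv s) := by
  rw [ev_fw gam_iv (by intro a; cases a <;> decide)]
  congr 1
  ext a
  rw [FreeGroup.lift_apply_of]
  cases a
  exacts [gam_x.symm, gam_y.symm, gam_t.symm]

theorem xyz : (Subgroup.closure ({J4.x, J4.y, (J4.y * ((J4.y * J4.x) ^ 4 * J4.y⁻¹ * J4.x)⁻¹ * J4.t *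
      ((J4.y * J4.x) ^ 4 * J4.y⁻¹ * J4.x)) ^ 3} : Set (FreeGroup J4.Gen))).map
    (PresentedGroup.mk (coxRelators J4.edges ∪ {r | r ∈ J4.extra})) = M := by
  rw [MonoidHom.map_closure, Set.image_insert_eq, Set.image_pair, ev_mk, ev_mk, ev_mk,
    show fw ix iv J4.x = [1] by decide +kernel, show fw ix iv J4.y = [2] by decide +kernel,
    show fw ix iv ((J4.y * ((J4.y * J4.x) ^ 4 * J4.y⁻¹ * J4.x)⁻¹ * J4.t *
      ((J4.y * J4.x) ^ 4 * J4.y⁻¹ * J4.x)) ^ 3) = J4m.zw by decide +kernel]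
  refine le_antisymm ((Subgroup.closure_le _).2 ?_) (cl_le.2 ?_)
  · rintro _ (rfl | rfl | rfl)
    exacts [mem_cl (γ := gm) (x := 1) (by decide), mem_cl (γ := gm) (x := 2) (by decide),
      mem_cl (γ := gm) (x := 4) (by decide)]
  · simp only [L, List.forall_mem_cons, show gm 3 = (gm 2)⁻¹ from (gm_ok.1.2 2 (by norm_num)).2]
    exact ⟨Subgroup.subset_closure (Or.inl rfl), Subgroup.subset_closure (Or.inr (Or.inl rfl)),
      Subgroup.inv_mem _ (Subgroup.subset_closure (Or.inr (Or.inl rfl))),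
      Subgroup.subset_closure (Or.inr (Or.inr rfl)), by simp⟩

theorem kill {K : Subgroup Spor.J4} [hK : K.Normal] {w h h' : List ℕ} {m r : ℕ} (hw : ev gam w ∈ K) (hr : r.Prime)
    (hb : cnd (subB (w ++ h ++ w ++ h') L) (cnd (decide (frd iv (h ++ h') = []))
      (ordB 112 mR mI (pwM 112 mR mI (evM 112 mR mI mT (w ++ h ++ w ++ h')) m) r 0) false) false = true) :
    r ∣ Nat.card K := by
  rw [cnd_tt, cnd_tt, decide_eq_true_eq] at hb
  have h1 := cx.ord (cx.pow (rho_ev hb.1) m) hr (by norm_num) hb.2.2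
  have h2 : ev gam h' = (ev gam h)⁻¹ := by
    rw [eq_inv_iff_mul_eq_one, mul_eq_one_comm, ← ev_append, ← ev_frd gam_iv, hb.2.1, ev_nil]
  rw [← map_pow, orderOf_injective rho card_all.2.1] at h1
  rw [← h1]
  refine K.orderOf_dvd_natCard (K.pow_mem ?_ _)
  rw [ev_append, ev_append, ev_append, h2, mul_assoc, mul_assoc, ← mul_assoc (ev gam h)]
  exact K.mul_mem hw (hK.conj_mem _ hw _)

theorem card_inf (K : Subgroup Spor.J4) : Nat.card (K ⊓ M : Subgroup Spor.J4) = Nat.card (K.comap fm) := by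
  rw [← fm_range, inf_comm, ← Subgroup.map_comap_eq, Subgroup.card_map_of_injective fm_inj]

theorem top_of_le {K : Subgroup Spor.J4} [K.Normal] (h : M ≤ K) : K = ⊤ := by
  have h1 : K.index ∣ 173067389 := card_all.2.2 ▸ Subgroup.index_dvd_of_le h
  obtain ⟨k, hk⟩ := (Odd.of_dvd_nat (by decide) h1)
  have h2 := K.pow_index_mem (gam 4)
  have h3 : gam 4 ^ 2 = 1 := by simpa [ev_single] using gam_rel ([4], 1) (by decide +kernel)
  rw [hk, pow_succ, pow_mul, h3, one_pow, one_mul] at h2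
  rw [eq_top_iff, ← gam_top, cl_le]
  intro x hx
  rcases (by revert x; decide : x ∈ LN ∨ x = 4) with h4 | rfl
  exacts [h (n_le (mem_cl h4)), h2]

theorem top_of_meet {K : Subgroup Spor.J4} [K.Normal] (h : K.comap fm ≠ ⊥) : K = ⊤ := by
  rcases (e_norm (K.comap fm)).resolve_left h with e | e
  · have h1 := card_dvd K M
    rw [card_inf, e, ker_card, card_all.2.2] at h1
    have h2 : ew [4] ∈ K.comap fm := e ▸ z_ker
    rw [Subgroup.mem_comap, fm_z] at h2
    exact absurd ((kill (h := [1, 4]) (h' := [4, 1]) (m := 1) h2 Nat.prime_three (by decide +kernel)).trans h1)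
      (by norm_num)
  · exact top_of_le (fm_range ▸ fun _ ⟨g, hg⟩ => hg ▸ (show g ∈ K.comap fm from e ▸ Subgroup.mem_top g))

/-- The only coset of `M` fixed by `⟨x, y⟩` is `M`. -/
theorem fix_n {y : Spor.J4 ⧸ M} (h : ∀ g ∈ cl gam LN, g • y = y) : y = ((1 : Spor.J4) : Spor.J4 ⧸ M) := by
  obtain ⟨v, hv, e⟩ := cover.2 y
  have h1 := orbit_eq v hv
  have h2 : MulAction.orbit (cl gam LN) y = {y} :=
    Set.eq_singleton_iff_unique_mem.2 ⟨MulAction.mem_orbit_self _, fun _ ⟨g, e⟩ => e ▸ h g g.2⟩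
  rw [← MulAction.orbit_eq_iff.2 e, h2, Set.ncard_singleton] at h1
  rw [(by clear e; revert v; decide +kernel : v.1 = 0), nd_zero] at e
  obtain ⟨g, rfl⟩ := e
  exact smul_one_of_mem.2 (n_le g.2)

theorem mem_of_cen {c : Spor.J4} (h : ∀ g ∈ cl gam LN, Commute g c) : c ∈ M :=
  smul_one_of_mem.1 (fix_n fun g hg => by rw [← mul_smul, h g hg, mul_smul, smul_one_of_mem.2 (n_le hg)])

theorem mem_of_prime {K : Subgroup Spor.J4} [K.Normal] {g : Spor.J4} {p : ℕ} (hp : p.Prime) (h : orderOf (rho g) = p)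
    (h1 : p ∣ Nat.card K) (h2 : ¬ p * p ∣ 86775571046077562880) : g ∈ K := by
  rw [orderOf_injective rho card_all.2.1] at h
  have h3 : ¬ p ∣ K.index := fun e => h2 (by
    rw [← card_all.1, ← K.index_mul_card]; exact Nat.mul_dvd_mul e h1)
  have h4 := K.pow_index_mem g
  have h5 : (orderOf g).Coprime K.index := h ▸ (Nat.Prime.coprime_iff_not_dvd hp).2 h3
  exact (Subgroup.zpowers_le.2 h4) (mem_zpowers_pow_iff.2 h5.symm)

theorem simple : IsSimpleGroup Spor.J4 := by
  have : Nontrivial Spor.J4 := ⟨_, _, gam_ne⟩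
  refine ⟨fun K hK => or_iff_not_imp_right.2 fun hn => ?_⟩
  have h0 : K.comap fm = ⊥ := by_contra fun h => hn (top_of_meet h)
  have h1 := card_dvd K M
  rw [card_inf, h0, Subgroup.card_bot, card_all.2.2, mul_one] at h1
  have k1 : ¬ 29 ∣ Nat.card K := fun h => absurd ((kill (h := [1]) (h' := [1]) (m := 1)
    (mem_of_prime (by norm_num) o29 h (by norm_num)) Nat.prime_two (by decide +kernel)).trans h1) (by norm_num)
  have k2 : ¬ 31 ∣ Nat.card K := fun h => absurd ((kill (h := [1]) (h' := [1]) (m := 4)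
    (mem_of_prime (by norm_num) o31 h (by norm_num)) Nat.prime_two (by decide +kernel)).trans h1) (by norm_num)
  have k3 : ¬ 37 ∣ Nat.card K := fun h => absurd ((kill (h := [1]) (h' := [1]) (m := 1)
    (mem_of_prime (by norm_num) o37 h (by norm_num)) Nat.prime_five (by decide +kernel)).trans h1) (by norm_num)
  have k4 : ¬ 43 ∣ Nat.card K := fun h => absurd ((kill (h := [4]) (h' := [4]) (m := 2)
    (mem_of_prime (by norm_num) o43 h (by norm_num)) Nat.prime_three (by decide +kernel)).trans h1) (by norm_num)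
  have c : ∀ {p : ℕ}, p.Prime → ¬ p ∣ Nat.card K → (Nat.card K).Coprime p := fun hp h =>
    ((Nat.Prime.coprime_iff_not_dvd hp).2 h).symm
  have h2 : Nat.card K ∣ 11 ^ 2 := by
    rw [show 173067389 = 11 ^ 2 * 29 * 31 * 37 * 43 by norm_num] at h1
    exact (c (by norm_num) k1).dvd_of_dvd_mul_right ((c (by norm_num) k2).dvd_of_dvd_mul_right
      ((c (by norm_num) k3).dvd_of_dvd_mul_right ((c (by norm_num) k4).dvd_of_dvd_mul_right h1)))
  obtain ⟨F, f1, f2⟩ := fix_conj (W := K) (a := fm (ew [1, 2])) (by rw [Subgroup.normalizer_eq_top]; trivial)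
    (p := 23) (by norm_num) (by rw [← map_pow, a_pow, map_one])
  obtain ⟨k, hk, e1⟩ := (Nat.dvd_prime_pow (by norm_num)).1 h2
  obtain ⟨j, hj, e2⟩ := (Nat.dvd_prime_pow (by norm_num)).1 (e1 ▸ F.card_subgroup_dvd_card)
  have h3 : j = k := by
    rw [e1, e2] at f2; revert f2; unfold Nat.ModEq; interval_cases k <;> interval_cases j <;> simp
  have h4 : F = ⊤ := Subgroup.eq_top_of_card_eq F (by rw [e1, e2, h3])
  have h5 : Subgroup.centralizer (K : Set Spor.J4) = ⊤ := top_of_meet fun e => e_az (by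
    have : ew [1, 2] ∈ (Subgroup.centralizer (K : Set Spor.J4)).comap fm := fun w hw =>
      ((f1 ⟨w, hw⟩).1 (h4 ▸ Subgroup.mem_top _)).symm
    rw [e, Subgroup.mem_bot] at this
    rw [this]; exact Commute.one_left _)
  refine (Subgroup.eq_bot_iff_forall K).2 fun c hc => ?_
  obtain ⟨g, rfl⟩ : c ∈ fm.range := fm_range ▸ mem_of_cen fun g _ =>
    ((show g ∈ Subgroup.centralizer (K : Set Spor.J4) from h5 ▸ Subgroup.mem_top g) c hc).symm
  have h6 : g ∈ K.comap fm := hc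
  rw [h0, Subgroup.mem_bot] at h6
  rw [h6, map_one]

end Cfsg.Lib.Comp.J4
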