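import Cfsg.Agent.Lib.Comp.Fast

set_option maxRecDepth 100000
set_option Elab.async false

namespace Cfsg.Lib.Comp.J4

universe u

def iv : ℕ → ℕ := (fun x => look (nat_lit 0xffef7cefae78df6d74cf2c70beeb6caeaa689e69648e28607de75c6da6585d65544d24503ce34c2ca2481c6144083040) 6 x)

noncomputable def R : List (List ℕ × ℕ) := [([1],1),
 ([2],2),
 ([1,2],22),
 ([1,3,1,2],11),
 ([1,3,1,3,1,2,1,2],4),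
 ([1,2,1,2,1,3,1,2,1,3,1,2,1,3],3),
 ([1,2,1,2,1,3,1,2,1,2,1,3,1,2,1,2,1,3,1,2,1,3,1,3,1,2,1,3,1,3,1,2,1,3,1,3],0),
 ([4],1),
 ([4,3,1,3,1,3,1,2,1,2,1,3,1,3,4,2,1,2,1,3,1,3,1,2,1,2,1,2],0),
 ([4,1],1),
 ([2,1,2,1,3,1,2,1,3,4,2,1,3,1,2,1,3,1],2),
 ((apd [2,1,2,1,2,1,2,2,1,2,1,2,1,2,2,1,2,1,2,1,2,4,3,3,1,3,1,3,1,3,1,3,1,3,1,3,3,1,3,1,3,1,4,1,2,1,2,1,2,2,1,2,1,2,1,2,1,2,1,2]
 [1,2,2]),1),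
 ([2,3],0)]

def L : List ℕ := [1,2,3,4]

def LN : List ℕ := [1,2,3]

noncomputable def RN : List (List ℕ × ℕ) := [([1],1),
 ([2],2),
 ([1,2],22),
 ([1,3,1,2],11),
 ([1,3,1,3,1,2,1,2],4),
 ([1,2,1,2,1,3,1,2,1,3,1,2,1,3],3),
 ([1,2,1,2,1,3,1,2,1,2,1,3,1,2,1,2,1,3,1,2,1,3,1,3,1,2,1,3,1,3,1,2,1,3,1,3],0),
 ([2,3],0)]

end Cfsg.Lib.Comp.J4
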