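import Cfsg.Agent.Lib.Comp.J4.Rk0

/-! The seven orbits of `2 ^ 11 : M₂₄` on its cosets in `J₄`. -/

set_option maxRecDepth 100000

namespace Cfsg.Lib.Comp.J4

open Cfsg.Spor Cfsg.Lib.MatB.F2 Cfsg.Lib.MatB.J4L MulAction

/-- the coset of the inverse of a word. -/
noncomputable def rkP (w : List ℕ) : Spor.J4 ⧸ M := (((ev gam w)⁻¹ : Spor.J4) : Spor.J4 ⧸ M)

def rkh (u : List ℕ) : List ℕ := (rkH.lookup u).getD []

def rkF (P : List (List ℕ)) : List ℕ := P.flatMap fun u => rkh u ++ [4]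

noncomputable def rkW (k : ℕ) : List ℕ := rkF (nth [] J4n.uPA k)

theorem rk_h1 : allL rkH (fun e => cnd (subB e.1 (LN ++ J4n.slp.map (·.1))) (cnd (subB e.2 LN)
    (eqB 4096 12 0 12 J4n.nets e.1 0 e.2) false) false) = true := by decide +kernel

theorem rk_h2 : ∀ k < 21, ∀ u ∈ nth [] J4n.uPA k, (u, rkh u) ∈ rkH := by decide +kernel

theorem rk_ph {u s : List ℕ} (h : (u, s) ∈ rkH) : ph (evG J4n.nets (cl (gp J4n.nets) LN) u) = ev gam s := by
  have := allL_iff.1 rk_h1 _ h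
  rw [cnd_tt, cnd_tt] at this
  obtain ⟨a, b, c⟩ := this
  have e := eq_of_eqB J4n.nets_ok (by norm_num) c
  rw [zero_add, pow_one] at e
  have : evG J4n.nets (cl (gp J4n.nets) LN) u = evG J4n.nets (cl (gp J4n.nets) LN) s := Subtype.ext
    ((coe_ev_sval fun x hx => J4n.mem_all (sub_of_subB a x hx)).trans (e.trans
      (coe_ev_sval fun x hx => mem_cl (sub_of_subB b x hx)).symm))
  rw [this]
  exact ph_ex.choose_spec.evG (sub_of_subB b)

theorem rk_nd {k : ℕ} (hk : k < 21) : nd k = rkP (rkW k) := by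
  let _ : MulAction (cl (gp J4n.nets) LN) (Spor.J4 ⧸ M) := MulAction.compHom _ ph
  have key : ∀ P : List (List ℕ), (∀ u ∈ P, (u, rkh u) ∈ rkH) → ∀ w, P.foldl (fun (y : Spor.J4 ⧸ M) s =>
      (gam 4)⁻¹ • ra J4n.nets (cl (gp J4n.nets) LN) y s) (rkP w) = rkP (w ++ rkF P) := fun P => by
    induction P with
    | nil => intro _ w; simp [rkF]
    | cons u P ih =>
      intro h w
      rw [List.foldl_cons, show w ++ rkF (u :: P) = (w ++ (rkh u ++ [4])) ++ rkF P by simp [rkF],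
        ← ih fun v hv => h v (List.mem_cons_of_mem _ hv)]
      congr 1
      change (gam 4)⁻¹ • ph (evG J4n.nets (cl (gp J4n.nets) LN) u)⁻¹ • rkP w = _
      rw [map_inv, rk_ph (h u List.mem_cons_self), rkP, rkP, ev_append, ev_append, ev_single, mul_inv_rev, mul_inv_rev,
        mul_assoc]
      rfl
  have := key _ (rk_h2 k hk) []
  rw [List.nil_append, show rkP [] = ((1 : Spor.J4) : Spor.J4 ⧸ M) by rw [rkP, ev_nil, inv_one]] at this
  exact this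

/-- the right action on row vectors. -/
noncomputable def rkA (v : Fin 112 → ZMod 2) (g : Spor.J4) : Fin 112 → ZMod 2 :=
  Matrix.vecMul v (rho g : GL (Fin 112) (ZMod 2))

theorem rkA_mul (v : Fin 112 → ZMod 2) (g h : Spor.J4) : rkA v (g * h) = rkA (rkA v g) h := by
  rw [rkA, rkA, rkA, map_mul, Units.val_mul, Matrix.vecMul_vecMul]

theorem rkA_one (v : Fin 112 → ZMod 2) : rkA v 1 = v := by rw [rkA, map_one, Units.val_one, Matrix.vecMul_one]

noncomputable def rkV (T : ℕ → ℕ) (w : List ℕ) : ℕ → ℕ :=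
  List.rec (motive := fun _ => ℕ → ℕ) (fun v => v) (fun x _ ih v => force (mu 112 1 v (T x)) ih) w

theorem rkV_ok {T : ℕ → ℕ} {γ : ℕ → Spor.J4} (h : ∀ x ∈ L, MatB.F2.Rp 112 (rho (γ x)) (T x)) {w : List ℕ}
    (hw : subB w L = true) (v : ℕ) : tV 112 (rkV T w v) = rkA (tV 112 v) (ev γ w) := by
  replace hw := sub_of_subB hw
  induction w generalizing v with
  | nil => exact (rkA_one _).symm
  | cons x w ih =>
    rw [ev_cons, rkA_mul, rkA, rkA, ← (h x (hw x List.mem_cons_self)).vec]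
    exact ih _ fun y hy => hw y (List.mem_cons_of_mem _ hy)

noncomputable def rkT : ℕ → ℕ := nth mI [mI, m1, m2, m3, rkZ]

theorem rk_g : ∀ x ∈ L, MatB.F2.Rp 112 (rho (gam x)) (mT x) := fun x hx =>
  rho_gen x hx ▸ dl_ok.2 x (by simp [L] at hx; omega)

theorem rk_m : ∀ x ∈ L, MatB.F2.Rp 112 (rho (gm x)) (rkT x) := by
  simp only [L, List.forall_mem_cons]
  refine ⟨gm_n 1 (by decide) ▸ rk_g 1 (by decide), gm_n 2 (by decide) ▸ rk_g 2 (by decide),
    gm_n 3 (by decide) ▸ rk_g 3 (by decide), ?_, by simp⟩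
  have := rho_ev (w := J4m.zw) (by decide +kernel)
  rwa [show evM 112 mR mI mT J4m.zw = rkT 4 by decide +kernel] at this

theorem rk_fix {g : Spor.J4} (hg : g ∈ M) : rkA (tV 112 v0) g = tV 112 v0 := by
  let S : Subgroup Spor.J4 :=
    { carrier := {g | rkA (tV 112 v0) g = tV 112 v0}
      one_mem' := rkA_one _
      mul_mem' := fun {a b} (ha : _ = _) (hb : _ = _) => by
        change _ = _; rw [rkA_mul, ha, hb]
      inv_mem' := fun {a} (ha : _ = _) => by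
        change _ = _; nth_rewrite 1 [← ha]; rw [← rkA_mul, mul_inv_cancel, rkA_one] }
  refine (cl_le (H := S)).2 (fun x hx => ?_) hg
  have k : rkV rkT [x] v0 = v0 := by revert x; decide +kernel
  have := rkV_ok rk_m (w := [x]) (by clear k; revert x; decide +kernel) v0
  rw [ev_single, k] at this
  exact this.symm

theorem rk_I : J4n.uV.map (fun v => (v.1, v.2.2.2.2.2)) = rkI.map fun e => (e.1, e.2.1) := by decide +kernel

def rkR (i : ℕ) : ℕ := [0, 7, 8, 9, 19, 17, 18].getD i 0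

theorem rk_c : allL rkI (fun e => cnd (Nat.ble e.1 20) (cnd (subB (rkW e.1) L) (cnd (subB (rkU e.1) L)
    (cnd (Nat.beq (rkV mT (rkW e.1) v0) (rkX e.1)) (Nat.beq (rkV rkT (rkU e.1) (rkX e.1)) (rkX (rkR e.2.2)))
      false) false) false) false) = true := by decide +kernel

theorem rk_c' {e : ℕ × ℕ × ℕ} (he : e ∈ rkI) : nd e.1 = rkP (rkW e.1) ∧
    rkA (tV 112 v0) (ev gam (rkW e.1)) = tV 112 (rkX e.1) ∧
    ∃ m ∈ M, rkA (tV 112 (rkX e.1)) m = tV 112 (rkX (rkR e.2.2)) := by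
  have := allL_iff.1 rk_c _ he
  simp only [cnd_tt, beq_tt, ble_tt] at this
  obtain ⟨a, b, c, d, f⟩ := this
  exact ⟨rk_nd (by omega), by rw [← d, rkV_ok rk_g b], ev gm (rkU e.1),
    ev_mem fun x hx => mem_cl (sub_of_subB c x hx), by rw [← f, rkV_ok rk_m c]⟩

theorem rk_cover (y : Spor.J4 ⧸ M) : ∃ e ∈ rkI, y ∈ orbit (cl gam LN) (nd e.1) := by
  obtain ⟨v, hv, h⟩ := cover.2 y
  obtain ⟨e, he, e2⟩ := List.mem_map.1 (rk_I ▸ List.mem_map_of_mem (f := fun v : SN => (v.1, v.2.2.2.2.2)) hv)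
  exact ⟨e, he, (Prod.ext_iff.1 e2).1 ▸ h⟩

theorem rk_size {e : ℕ × ℕ × ℕ} (he : e ∈ rkI) : (orbit (cl gam LN) (nd e.1)).ncard = e.2.1 := by
  obtain ⟨v, hv, e2⟩ := List.mem_map.1 (rk_I.symm ▸ List.mem_map_of_mem (f := fun e : ℕ × ℕ × ℕ => (e.1, e.2.1)) he)
  exact (Prod.ext_iff.1 e2).1 ▸ (Prod.ext_iff.1 e2).2 ▸ orbit_eq v hv

theorem rk_stab {g : Spor.J4} (h : rkA (tV 112 v0) g = tV 112 v0) : g ∈ M := by
  obtain ⟨e, he, n, hn⟩ := rk_cover ((g⁻¹ : Spor.J4) : Spor.J4 ⧸ M)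
  obtain ⟨a, b, -⟩ := rk_c' he
  have c : g * ((n : Spor.J4) * (ev gam (rkW e.1))⁻¹) ∈ M := by
    have := QuotientGroup.eq.1 (show ((g⁻¹ : Spor.J4) : Spor.J4 ⧸ M) =
      (((n : Spor.J4) * (ev gam (rkW e.1))⁻¹ : Spor.J4) : Spor.J4 ⧸ M) by rw [← hn, a]; rfl)
    rwa [inv_inv] at this
  have d := congrArg (fun v => rkA v (ev gam (rkW e.1))) (rk_fix c)
  simp only [← rkA_mul, mul_assoc, inv_mul_cancel, mul_one] at d
  rw [rkA_mul, h, rk_fix (n_le n.2), b] at d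
  rcases (by clear * - he; revert e; decide +kernel : rkW e.1 = [] ∨
    Nat.beq (look v0 112 0) (look (rkX e.1) 112 0) = false) with k | k
  · rw [k, ev_nil, inv_one, mul_one] at c
    exact (M.mul_mem_cancel_right (n_le n.2)).1 c
  · exact absurd d (tV_ne k)

theorem rk_pt {w w' : List ℕ} {m : Spor.J4} (h : rkA (rkA (tV 112 v0) (ev gam w)) m = rkA (tV 112 v0) (ev gam w')) :
    m • rkP w' = rkP w := by
  refine (QuotientGroup.eq.2 ?_ : rkP w = ((m * (ev gam w')⁻¹ : Spor.J4) : Spor.J4 ⧸ M)).symm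
  rw [inv_inv]
  exact rk_stab (by rw [rkA_mul, rkA_mul, h, ← rkA_mul, mul_inv_cancel, rkA_one])

theorem rk_R : ∀ i < 7, ∃ e ∈ rkI, e.1 = rkR i ∧ e.2.2 = i := by decide +kernel

theorem rk_lt : ∀ e ∈ rkI, e.2.2 < 7 := by decide +kernel

theorem rk_fus {e : ℕ × ℕ × ℕ} (he : e ∈ rkI) : ∃ m ∈ M, m • nd (rkR e.2.2) = nd e.1 := by
  obtain ⟨a, b, m, hm, c⟩ := rk_c' he
  obtain ⟨f, hf, e1, -⟩ := rk_R _ (rk_lt e he)
  obtain ⟨a', b', -⟩ := rk_c' hf
  rw [e1] at a' b'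
  exact ⟨m, hm, by rw [a, a']; exact rk_pt (by rw [b, b', c])⟩

def rkTot (b : ℕ → Bool) : ℕ := ((rkI.filter fun e => b e.2.2).map (·.2.1)).sum

theorem rk_le {O : Set (Spor.J4 ⧸ M)} (hO : ∀ m ∈ M, ∀ y ∈ O, m • y ∈ O) {b : ℕ → Bool}
    (hb : ∀ i, nd (rkR i) ∈ O → b i = true) : O.ncard ≤ rkTot b := by
  obtain ⟨h1, h2⟩ := card_le_sum (l := rkI.filter fun e => b e.2.2) (S := fun e => orbit (cl gam LN) (nd e.1))
    fun v _ => Set.finite_range _
  rw [List.map_congr_left (g := (·.2.1)) fun e he => rk_size (List.mem_of_mem_filter he)] at h2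
  refine le_trans (Set.ncard_le_ncard (fun y hy => ?_) h1) h2
  obtain ⟨e, he, n, rfl⟩ := rk_cover y
  obtain ⟨m, hm, e2⟩ := rk_fus he
  refine ⟨e, List.mem_filter.2 ⟨he, hb _ ?_⟩, n, rfl⟩
  have := hO _ (inv_mem (mul_mem (n_le n.2) hm)) ((n : Spor.J4) • nd e.1) hy
  rwa [← e2, ← mul_smul (n : Spor.J4) m, inv_smul_smul] at this

def rkB (b0 b1 b2 b3 b4 b5 b6 : Bool) (i : ℕ) : Bool := [b0, b1, b2, b3, b4, b5, b6].getD i false

theorem rk_tot (b : ℕ → Bool) : rkTot b = rkTot (rkB (b 0) (b 1) (b 2) (b 3) (b 4) (b 5) (b 6)) := by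
  unfold rkTot
  rw [List.filter_congr fun e he => ?_]
  have := rk_lt e he
  generalize e.2.2 = i at this
  interval_cases i <;> rfl

def rkS (i : ℕ) : ℕ := [1, 15180, 28336, 3400320, 32643072, 54405120, 82575360].getD i 0

theorem rk_num : ∀ b0 b1 b2 b3 b4 b5 b6 : Bool, rkTot (rkB b0 b1 b2 b3 b4 b5 b6) +
    rkTot (rkB (!b0) (!b1) (!b2) (!b3) (!b4) (!b5) (!b6)) = 173067389 ∧
    (rkTot (rkB b0 b1 b2 b3 b4 b5 b6) ∣ 501397585920 → (b4 = true ∧ b5 = true ∧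
      rkTot (rkB b0 b1 b2 b3 b4 b5 b6) = 87048192) ∨ ∀ i < 7, rkB b0 b1 b2 b3 b4 b5 b6 i = true →
      rkTot (rkB b0 b1 b2 b3 b4 b5 b6) = rkS i) ∧
    (rkTot (rkB b0 b1 b2 b3 b4 b5 b6) ∣ 173067389 → rkTot (rkB b0 b1 b2 b3 b4 b5 b6) = 1 ∨
      rkTot (rkB b0 b1 b2 b3 b4 b5 b6) = 173067389) := by decide +kernel

open Classical in
theorem rk_eq {O : Set (Spor.J4 ⧸ M)} (hO : ∀ m ∈ M, ∀ y ∈ O, m • y ∈ O) :
    O.ncard = rkTot fun i => decide (nd (rkR i) ∈ O) := by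
  have := quo.1
  have h1 := rk_le hO (b := fun i => decide (nd (rkR i) ∈ O)) fun i h => decide_eq_true h
  have h2 := rk_le (O := Oᶜ) (fun m hm y hy k => hy (by simpa using hO _ (inv_mem hm) _ k))
    (b := fun i => !decide (nd (rkR i) ∈ O)) fun i h => by simpa using h
  have h3 := Set.ncard_add_ncard_compl O
  rw [show Nat.card (Spor.J4 ⧸ M) = 173067389 from card_all.2.2] at h3
  rw [rk_tot] at h1 h2 ⊢
  have := (rk_num (decide (nd (rkR 0) ∈ O)) (decide (nd (rkR 1) ∈ O)) (decide (nd (rkR 2) ∈ O))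
    (decide (nd (rkR 3) ∈ O)) (decide (nd (rkR 4) ∈ O)) (decide (nd (rkR 5) ∈ O)) (decide (nd (rkR 6) ∈ O))).1
  omega

end Cfsg.Lib.Comp.J4
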