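import Cfsg.Agent.Lib.Comp.J4.Rk1
import Cfsg.Prelude.Def_Transfer

/-! Rank seven, maximality of `M`, and the normaliser of the `2 ^ 11`. -/

set_option maxRecDepth 100000

namespace Cfsg.Lib.Comp.J4

open Cfsg.Spor Cfsg.Lib.MatB.F2 Cfsg.Lib.MatB.J4L MulAction
open scoped Pointwise

theorem rk_os0 {Γ X : Type*} [Group Γ] [MulAction Γ X] (P : Subgroup Γ) (x : X) :
    (orbit P x).ncard * Nat.card ↥(P ⊓ stabilizer Γ x) = Nat.card P := by
  rw [← index_stabilizer, ← (stabilizer P x).index_mul_card,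
    ← Subgroup.card_map_of_injective (K := stabilizer P x) P.subtype_injective]
  congr 3
  ext g
  exact ⟨fun h => ⟨⟨g, h.1⟩, h.2, rfl⟩, fun ⟨a, h, e⟩ => e ▸ ⟨a.2, h⟩⟩

theorem rk_os (P : Subgroup Spor.J4) (x : Spor.J4 ⧸ M) :
    (orbit P x).ncard * Nat.card ↥(P ⊓ stabilizer Spor.J4 x) = Nat.card P := rk_os0 P x

/-- the normal `2 ^ 11` of `M`. -/
noncomputable def rkV0 : Subgroup Spor.J4 := fn.ker.map fm

theorem rkV0_card : Nat.card rkV0 = 2 ^ 11 := by rw [rkV0, Subgroup.card_map_of_injective fm_inj, ker_card]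

theorem rkV0_le : rkV0 ≤ M := fm_range ▸ Subgroup.map_le_range _ _

theorem rkV0_cj {m v : Spor.J4} (hm : m ∈ M) (hv : v ∈ rkV0) : m * v * m⁻¹ ∈ rkV0 := by
  obtain ⟨a, rfl⟩ : m ∈ fm.range := fm_range ▸ hm
  obtain ⟨b, hb, rfl⟩ := hv
  exact ⟨_, fn.normal_ker.conj_mem b hb a, by simp⟩

theorem rk_disj : Disjoint rkV0 (cl gam LN) := by
  have : ((rkV0.subgroupOf (cl gam LN))).Normal := ⟨fun a ha g => rkV0_cj (n_le g.2) ha⟩
  have s := n_simple
  rcases this.eq_bot_or_eq_top with e | e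
  · exact Subgroup.subgroupOf_eq_bot.1 e
  · have := Subgroup.card_le_of_le (Subgroup.subgroupOf_eq_top.1 e)
    rw [n_card, rkV0_card] at this
    omega

theorem rk_z : gm 4 ∈ rkV0 ∧ gm 4 ≠ 1 := by
  have e : fm (ew [4]) = gm 4 := by rw [fm_ev (by decide +kernel), ev_single]
  exact ⟨⟨_, z_ker, e⟩, fun h => az (by rw [e, h, map_one]; exact Commute.one_right _)⟩

theorem rk_ex : ∃ ζ ∈ rkV0, ζ ≠ 1 ∧ ζ • nd 4 = nd 4 := by
  have he : (4, 5100480, 4) ∈ rkI := by decide +kernel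
  obtain ⟨a, b, -⟩ := rk_c' he
  have i : ev gm [1,2,1,2,1,2,1,3,1,3,1,3,1] = (ev gm [1,2,1,2,1,2,1,3,1,3,1,3,1])⁻¹ := by
    rw [eq_inv_iff_mul_eq_one, ← ev_append, ← ev_frd gm_ok.1]
    exact (congrArg _ (by decide +kernel)).trans (ev_nil _)
  have e : ev gm ([1,2,1,2,1,2,1,3,1,3,1,3,1] ++ [4] ++ [1,2,1,2,1,2,1,3,1,3,1,3,1]) =
      ev gm [1,2,1,2,1,2,1,3,1,3,1,3,1] * gm 4 * (ev gm [1,2,1,2,1,2,1,3,1,3,1,3,1])⁻¹ := by
    rw [ev_append, ev_append, ev_single, ← i]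
  refine ⟨_, rkV0_cj (m := ev gm [1,2,1,2,1,2,1,3,1,3,1,3,1]) (ev_mem fun x hx => mem_cl (by revert x; decide))
    rk_z.1, by simpa using rk_z.2, ?_⟩
  rw [← e, a]
  refine rk_pt ?_
  rw [b, ← rkV_ok rk_m (by decide +kernel)]
  exact congrArg _ (by decide +kernel)

theorem rk_no {y : Spor.J4 ⧸ M} (h4 : nd (rkR 4) ∈ orbit M y) (h5 : nd (rkR 5) ∈ orbit M y)
    (c : (orbit M y).ncard = 87048192) : False := by
  have he : (14, 212520, 5) ∈ rkI := by decide +kernel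
  obtain ⟨m1, hm1, e1⟩ := rk_fus (e := (4, 5100480, 4)) (by decide +kernel)
  obtain ⟨m2, hm2, e2⟩ := rk_fus he
  obtain ⟨ζ, z1, z2, z3⟩ := rk_ex
  have o1 : nd 14 ∈ orbit M y := by
    obtain ⟨a, ha⟩ := h5
    exact ⟨⟨m2, hm2⟩ * a, by rw [← show m2 • nd (rkR 5) = nd 14 from e2, ← ha]; exact mul_smul _ _ _⟩
  have o2 : nd 4 ∈ orbit M y := by
    obtain ⟨a, ha⟩ := h4
    exact ⟨⟨m1, hm1⟩ * a, by rw [← show m1 • nd (rkR 4) = nd 4 from e1, ← ha]; exact mul_smul _ _ _⟩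
  obtain ⟨m, hm⟩ : nd 14 ∈ orbit M (nd 4) := (orbit_eq_iff.2 o2).symm ▸ o1
  replace hm : (m : Spor.J4) • nd 4 = nd 14 := hm
  have c1 := rk_os M (nd 14)
  rw [orbit_eq_iff.2 o1, c, m_card] at c1
  have c2 := rk_os (cl gam LN) (nd 14)
  rw [rk_size he, n_card] at c2
  change 212520 * Nat.card ↥(cl gam LN ⊓ stabilizer Spor.J4 (nd 14)) = _ at c2
  set St := stabilizer Spor.J4 (nd 14)
  have a1 : (m : Spor.J4) * ζ * (m : Spor.J4)⁻¹ ∈ rkV0 ⊓ St := ⟨rkV0_cj m.2 z1, by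
    change _ • _ = _
    rw [← hm, mul_smul, inv_smul_smul, mul_smul, z3]⟩
  have le : (rkV0 ⊓ St) ⊔ (cl gam LN ⊓ St) ≤ M ⊓ St :=
    sup_le (inf_le_inf_right _ rkV0_le) (inf_le_inf_right _ n_le)
  have nm : cl gam LN ⊓ St ≤ Subgroup.normalizer ((rkV0 ⊓ St : Subgroup Spor.J4) : Set Spor.J4) := fun g hg =>
    Subgroup.mem_normalizer_fintype fun a ha =>
      ⟨rkV0_cj (n_le hg.1) ha.1, St.mul_mem (St.mul_mem hg.2 ha.2) (St.inv_mem hg.2)⟩
  have c3 := Nat.card_eq_of_bijective (fun a : ↥(rkV0 ⊓ St) × ↥(cl gam LN ⊓ St) =>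
    (⟨a.1 * a.2, Subgroup.mul_mem_sup a.1.2 a.2.2⟩ : ↥((rkV0 ⊓ St) ⊔ (cl gam LN ⊓ St)))) ⟨fun a b e =>
      Subgroup.mul_injective_of_disjoint (rk_disj.mono inf_le_left inf_le_left) (congrArg Subtype.val e), fun g => by
        have : g.1 ∈ ((rkV0 ⊓ St : Subgroup Spor.J4) : Set Spor.J4) * ((cl gam LN ⊓ St : Subgroup Spor.J4) : Set Spor.J4) := by
          rw [← Subgroup.coe_mul_of_right_le_normalizer_left _ _ nm]; exact g.2
        obtain ⟨a, ha, b, hb, e⟩ := this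
        exact ⟨(⟨a, ha⟩, ⟨b, hb⟩), Subtype.ext e⟩⟩
  have d1 := Subgroup.card_dvd_of_le le
  have d2 := Subgroup.card_dvd_of_le (inf_le_left : rkV0 ⊓ St ≤ rkV0)
  rw [← c3, Nat.card_prod, show Nat.card ↥(cl gam LN ⊓ St) = 1152 by omega,
    show Nat.card ↥(M ⊓ St) = 5 * 1152 by omega] at d1
  rw [rkV0_card] at d2
  have d3 := Nat.eq_one_of_dvd_coprimes (by norm_num) (Nat.dvd_of_mul_dvd_mul_right (by norm_num) d1) d2
  rw [Subgroup.card_eq_one.1 d3, Subgroup.mem_bot] at a1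
  exact z2 (by simpa using a1)

theorem rk_orb {i : ℕ} (hi : i < 7) : (orbit M (nd (rkR i))).ncard = rkS i := by
  classical
  have h := rk_eq (O := orbit M (nd (rkR i))) fun m hm y ⟨a, ha⟩ => ⟨⟨m, hm⟩ * a, by rw [← ha]; exact mul_smul _ _ _⟩
  have d : (orbit M (nd (rkR i))).ncard ∣ 501397585920 := m_card ▸ Dvd.intro _ (rk_os M _)
  have s : nd (rkR i) ∈ orbit M (nd (rkR i)) := mem_orbit_self _
  rw [rk_tot] at h
  rcases (rk_num _ _ _ _ _ _ _).2.1 (h ▸ d) with ⟨a, b, c⟩ | k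
  · exact (rk_no (of_decide_eq_true a) (of_decide_eq_true b) (h.trans c)).elim
  · refine h.trans (k i hi ?_)
    interval_cases i <;> exact decide_eq_true s

theorem rk_max {H : Subgroup Spor.J4} (h : M ≤ H) : H = M ∨ H = ⊤ := by
  classical
  have e := rk_eq (O := orbit H ((1 : Spor.J4) : Spor.J4 ⧸ M)) fun m hm y ⟨a, ha⟩ =>
    ⟨⟨m, h hm⟩ * a, by rw [← ha]; exact mul_smul _ _ _⟩
  have c := rk_os H ((1 : Spor.J4) : Spor.J4 ⧸ M)
  rw [show H ⊓ stabilizer Spor.J4 ((1 : Spor.J4) : Spor.J4 ⧸ M) = M from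
    le_antisymm (fun _ x => smul_one_of_mem.1 x.2) fun _ x => ⟨h x, smul_one_of_mem.2 x⟩, m_card] at c
  have d := H.card_subgroup_dvd_card
  rw [← c, card_all.1, show 86775571046077562880 = 173067389 * 501397585920 by norm_num] at d
  rw [rk_tot] at e
  rcases (rk_num _ _ _ _ _ _ _).2.2 (e ▸ Nat.dvd_of_mul_dvd_mul_right (by norm_num) d) with k | k
  · exact .inl (Subgroup.eq_of_le_of_card_ge h (by rw [← c, e, k, m_card])).symm
  · exact .inr (Subgroup.eq_top_of_card_eq _ (by rw [← c, e, k, card_all.1]))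

theorem rk_norm : Subgroup.normalizer (rkV0 : Set Spor.J4) = M := by
  refine (rk_max fun m hm => Subgroup.mem_normalizer_fintype fun a ha => rkV0_cj hm ha).resolve_right fun e => ?_
  have := simple
  rcases (Subgroup.normalizer_eq_top_iff.1 e).eq_bot_or_eq_top with k | k
  · exact rk_z.2 (Subgroup.mem_bot.1 (k ▸ rk_z.1))
  · have := rkV0_card
    rw [k, Subgroup.card_top, card_all.1] at this
    omega

theorem rk_el : (∀ a ∈ rkV0, a * a = 1) ∧ ∀ a ∈ rkV0, ∀ b ∈ rkV0, a * b = b * a := by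
  let K : Subgroup E :=
    { carrier := {g | g ∈ fn.ker ∧ g * g = 1 ∧ ∀ h ∈ fn.ker, g * h = h * g}
      one_mem' := ⟨one_mem _, one_mul _, fun h _ => by simp⟩
      mul_mem' := fun {a b} ha hb => ⟨mul_mem ha.1 hb.1, by
        rw [mul_assoc, ← mul_assoc b, hb.2.2 a ha.1, mul_assoc, hb.2.1, mul_one, ha.2.1], fun h hh => by
        rw [mul_assoc, hb.2.2 h hh, ← mul_assoc, ha.2.2 h hh, mul_assoc]⟩
      inv_mem' := fun {a} ha => by rwa [inv_eq_of_mul_eq_one_right ha.2.1] }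
  have : K.Normal := ⟨fun a ha g => ⟨fn.normal_ker.conj_mem a ha.1 g, by
    rw [conj_mul, ha.2.1, mul_one, mul_inv_cancel], fun h hh => by
      have := ha.2.2 _ (fn.normal_ker.conj_mem' h hh g)
      calc g * a * g⁻¹ * h = g * (a * (g⁻¹ * h * g)) * g⁻¹ := by group
        _ = _ := by rw [this]; group⟩⟩
  have : Fact (Nat.Prime 2) := ⟨Nat.prime_two⟩
  have pg : IsPGroup 2 fn.ker := IsPGroup.of_card ker_card
  have : Nontrivial fn.ker := Finite.one_lt_card_iff_nontrivial.1 (by rw [ker_card]; norm_num)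
  have := pg.center_nontrivial
  obtain ⟨n, hn, cn⟩ := (pg.to_subgroup (Subgroup.center fn.ker)).nontrivial_iff_card.1 this
  obtain ⟨c, hc⟩ := exists_prime_orderOf_dvd_card' (G := Subgroup.center fn.ker) 2 (cn ▸ dvd_pow_self 2 hn.ne')
  have cK : c.1.1 ∈ K := ⟨c.1.2, by
    have := pow_orderOf_eq_one c
    rw [hc, pow_two] at this
    exact congrArg (fun x : Subgroup.center fn.ker => x.1.1) this, fun h hh =>
      (congrArg Subtype.val (Subgroup.mem_center_iff.1 c.2 ⟨h, hh⟩)).symm⟩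
  have l : fn.ker ≤ K := by
    rcases e_norm K with e | e | e
    · rw [e, Subgroup.mem_bot] at cK
      rw [show c = 1 from Subtype.ext (Subtype.ext cK), orderOf_one] at hc
      omega
    · exact e.ge
    · exact e ▸ le_top
  refine ⟨?_, ?_⟩
  · rintro _ ⟨a, ha, rfl⟩
    rw [← map_mul, (l ha).2.1, map_one]
  · rintro _ ⟨a, ha, rfl⟩ _ ⟨b, hb, rfl⟩
    rw [← map_mul, (l ha).2.2 b hb, map_mul]

/-- rank seven with the given subdegrees. -/
def Rk7 {Γ : Type*} [Group Γ] (H : Subgroup Γ) : Prop := H.index = 173067389 ∧ ∃ c : Fin 7 → Γ ⧸ H,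
  (∀ i j : Fin 7, i ≠ j → orbit H (c i) ≠ orbit H (c j)) ∧ (∀ q : Γ ⧸ H, ∃ i : Fin 7, q ∈ orbit H (c i)) ∧
  (List.ofFn fun i => (orbit H (c i)).ncard) = [1, 15180, 28336, 3400320, 32643072, 54405120, 82575360]

theorem rk7 : Rk7 M := by
  refine ⟨card_all.2.2, fun i => nd (rkR i), fun i j n e => n ?_, fun q => ?_, ?_⟩
  · have := congrArg Set.ncard e
    rw [rk_orb i.2, rk_orb j.2] at this
    clear e n; revert i j; decide
  · obtain ⟨e, he, n, rfl⟩ := rk_cover q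
    obtain ⟨m, hm, e2⟩ := rk_fus he
    exact ⟨⟨e.2.2, rk_lt e he⟩, ⟨_, mul_mem (n_le n.2) hm⟩, by
      change ((n : Spor.J4) * m) • nd (rkR e.2.2) = (n : Spor.J4) • nd e.1
      rw [mul_smul, e2]⟩
  · rw [show (fun i : Fin 7 => (orbit M (nd (rkR i))).ncard) = fun i : Fin 7 => rkS i from funext fun i => rk_orb i.2]
    decide

theorem Rk7.of_map {G Γ : Type*} [Group G] [Group Γ] (e : G ≃* Γ) {H : Subgroup G} {H' : Subgroup Γ}
    (hm : ∀ g, e g ∈ H' ↔ g ∈ H) (h : Rk7 H') : Rk7 H := by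
  let φ : G ⧸ H ≃ Γ ⧸ H' := Quotient.congr e.toEquiv fun a b => by
    rw [QuotientGroup.leftRel_apply, QuotientGroup.leftRel_apply, ← hm, map_mul, map_inv]; rfl
  have sm : ∀ (g : G) (q : G ⧸ H), φ (g • q) = e g • φ q := fun g q => by
    induction q using QuotientGroup.induction_on with
    | H a => exact congrArg (fun x : Γ => (x : Γ ⧸ H')) (map_mul e g a)
  have ob : ∀ q, φ '' orbit H q = orbit H' (φ q) := fun q => Set.ext fun y =>
    ⟨fun ⟨_, ⟨g, a⟩, b⟩ => ⟨⟨e g, (hm _).2 g.2⟩, by rw [← b, ← a]; exact (sm g q).symm⟩, fun ⟨g, a⟩ =>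
      ⟨_, ⟨⟨e.symm g, (hm _).1 (by simp)⟩, rfl⟩, by
        rw [← a]; exact (sm (e.symm g) q).trans (by rw [e.apply_symm_apply]; rfl)⟩⟩
  obtain ⟨h1, c, h2, h3, h4⟩ := h
  refine ⟨(Nat.card_congr φ).trans h1, fun i => φ.symm (c i), fun i j n k => h2 i j n ?_, fun q => ?_, ?_⟩
  · have := congrArg (φ '' ·) k
    simpa only [ob, Equiv.apply_symm_apply] using this
  · obtain ⟨i, hi⟩ := h3 (φ q)
    rw [← φ.apply_symm_apply (c i), ← ob] at hi
    exact ⟨i, (φ.injective.mem_set_image).1 hi⟩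
  · rw [← h4]
    congr 1
    funext i
    rw [← Set.ncard_image_of_injective _ φ.injective, ob, φ.apply_symm_apply]

theorem rk_fin {G : Type*} [Group G] [Finite G] (hI : Spor.IsoJ4 G) (uq : ∀ T : Sylow 2 G, ∃! V : Subgroup G,
    V ≤ (T : Subgroup G) ∧ IsElementaryAbelian 2 V ∧ Nat.card V = 2 ^ 11) {V : Subgroup G}
    (hV : IsElementaryAbelian 2 V) (cV : Nat.card V = 2 ^ 11) : Rk7 (Subgroup.normalizer (V : Set G)) := by
  obtain ⟨e⟩ := hI
  have : Fact (Nat.Prime 2) := ⟨Nat.prime_two⟩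
  have k : ∀ e : G ≃* Spor.J4, IsElementaryAbelian 2 (rkV0.comap e.toMonoidHom) ∧
      Nat.card (rkV0.comap e.toMonoidHom) = 2 ^ 11 := fun e =>
    ⟨⟨⟨⟨fun a b => Subtype.ext (e.injective (by
      rw [Subgroup.coe_mul, Subgroup.coe_mul, map_mul, map_mul]; exact rk_el.2 _ a.2 _ b.2))⟩⟩,
      fun a ha => e.injective (by rw [pow_two, map_mul, map_one]; exact rk_el.1 _ ha)⟩, by
      have := Subgroup.card_map_of_injective (K := rkV0) (f := e.symm.toMonoidHom) e.symm.injective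
      rw [Subgroup.map_equiv_eq_comap_symm', rkV0_card] at this
      exact this⟩
  obtain ⟨T, hT⟩ := (IsPGroup.of_card cV).exists_le_sylow
  obtain ⟨T1, hT1⟩ := (IsPGroup.of_card (k e).2).exists_le_sylow
  obtain ⟨g, rfl⟩ := MulAction.exists_smul_eq G T T1
  let e' : G ≃* Spor.J4 := (MulAut.conj g).trans e
  have ev : rkV0.comap e'.toMonoidHom = V := (uq T).unique ⟨fun x hx => by
    have : g * x * g⁻¹ ∈ ((g • T : Sylow 2 G) : Subgroup G) := hT1 hx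
    rw [Sylow.coe_subgroup_smul, Subgroup.mem_pointwise_smul_iff_inv_smul_mem] at this
    simpa [mul_assoc] using this, k e'⟩ ⟨hT, hV, cV⟩
  refine Rk7.of_map e' (fun x => ?_) rk7
  rw [← rk_norm, ← ev, ← Subgroup.comap_normalizer_eq_of_surjective _ e'.surjective]
  rfl

end Cfsg.Lib.Comp.J4
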